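import Mathlib.RingTheory.Spectrum.Prime.Topology

/-!
# Characters of the multiplicative group

Over a connected base ring every natural family of homomorphisms `χ_B : Bˣ → Bˣ` is `t ↦ t ^ m` for a unique
integer `m` (`existsUnique_zpow`).
-/

set_option autoImplicit false
universe u

namespace K59.CharGm

open LaurentPolynomial

section aux

variable (R : Type u) [CommRing R]

/-- The variable of the Laurent polynomial ring as a unit. -/
noncomputable def tU : (LaurentPolynomial R)ˣ :=
  ⟨T 1, T (-1), by rw [← T_add]; simp, by rw [← T_add]; simp⟩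

/-- The evaluation homomorphism at a unit. -/
noncomputable def ev {B : Type u} [CommRing B] [Algebra R B] (t : Bˣ) : LaurentPolynomial R →ₐ[R] B :=
  { LaurentPolynomial.eval₂ (algebraMap R B) t with
    commutes' := fun r => by
      change LaurentPolynomial.eval₂ (algebraMap R B) t (algebraMap R (LaurentPolynomial R) r) = _
      rw [← C_eq_algebraMap, eval₂_C] }

theorem ev_T {B : Type u} [CommRing B] [Algebra R B] (t : Bˣ) (n : ℤ) : ev R t (T n) = ((t ^ n : Bˣ) : B) :=
  eval₂_T (algebraMap R B) t n

theorem ev_C {B : Type u} [CommRing B] [Algebra R B] (t : Bˣ) (r : R) : ev R t (C r) = algebraMap R B r :=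
  eval₂_C (algebraMap R B) t r

theorem map_ev_tU {B : Type u} [CommRing B] [Algebra R B] (t : Bˣ) : Units.map (ev R t : LaurentPolynomial R →* B) (tU R) = t := by
  apply Units.ext
  change ev R t (T 1) = t
  rw [ev_T, zpow_one]

theorem coeff_C_mul_T (a : R) (n m : ℤ) : (C a * T n : LaurentPolynomial R).coeff m = if n = m then a else 0 := by
  rw [← single_eq_C_mul_T]
  exact Finsupp.single_apply

theorem coeff_C_mul (a : R) (f : LaurentPolynomial R) (m : ℤ) : (C a * f).coeff m = a * f.coeff m := by
  rw [← smul_eq_C_mul]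
  rfl

theorem tU_zpow (n : ℤ) : ((tU R ^ n : (LaurentPolynomial R)ˣ) : LaurentPolynomial R) = T n := by
  have := ev_T R (tU R) n
  rw [← this]
  have h : ev R (tU R) = AlgHom.id R _ := by
    apply AlgHom.ext
    intro f
    induction f using LaurentPolynomial.induction_on' with
    | add p q hp hq => rw [map_add, map_add, hp, hq]
    | C_mul_T n a =>
      rw [map_mul, ev_C]
      have : ev R (tU R) (T n) = T n := by
        rw [ev_T]
        induction n using Int.induction_on with
        | zero => simp
        | succ n ih => rw [zpow_add_one, Units.val_mul, ih, T_add]; rfl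
        | pred n ih => rw [zpow_sub_one, Units.val_mul, ih, T_sub]; rfl
      rw [this, AlgHom.id_apply, ← C_eq_algebraMap]
  rw [h]
  rfl

end aux

theorem idempotent_eq {R : Type u} [CommRing R] [ConnectedSpace (PrimeSpectrum R)] {e : R} (he : IsIdempotentElem e) : e = 0 ∨ e = 1 := by
  have hcl : IsClopen (PrimeSpectrum.basicOpen e : Set (PrimeSpectrum R)) := PrimeSpectrum.isClopen_iff.2 ⟨e, he, rfl⟩
  rcases (preconnectedSpace_iff_clopen.1 inferInstance) _ hcl with h | h
  · left
    have h1 : IsNilpotent e := (PrimeSpectrum.basicOpen_eq_bot_iff e).1 (TopologicalSpace.Opens.ext h)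
    exact h1.eq_zero_of_isIdempotentElem he
  · right
    have h1 : IsUnit e := by
      by_contra hu
      obtain ⟨m, hm, hem⟩ := exists_max_ideal_of_mem_nonunits hu
      have : (⟨m, hm.isPrime⟩ : PrimeSpectrum R) ∈ (PrimeSpectrum.basicOpen e : Set (PrimeSpectrum R)) := by rw [h]; trivial
      exact this hem
    exact h1.mul_eq_left.1 he

theorem existsUnique_zpow (R : Type u) [CommRing R] [ConnectedSpace (PrimeSpectrum R)]
    (χ : ∀ (B : Type u) [CommRing B] [Algebra R B], Bˣ →* Bˣ)
    (hχ : ∀ (B C : Type u) [CommRing B] [Algebra R B] [CommRing C] [Algebra R C] (φ : B →ₐ[R] C) (t : Bˣ),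
      χ C (Units.map (φ : B →* C) t) = Units.map (φ : B →* C) (χ B t)) :
    ∃! m : ℤ, ∀ (B : Type u) [CommRing B] [Algebra R B] (t : Bˣ), χ B t = t ^ m := by
  have hR : Nontrivial R := by
    have : Nonempty (PrimeSpectrum R) := inferInstance
    exact PrimeSpectrum.nonempty_iff_nontrivial.1 this
  let L := LaurentPolynomial R
  let w : L := (χ L (tU R) : L)
  have hw : ∀ (B : Type u) [CommRing B] [Algebra R B] (t : Bˣ), (χ B t : B) = ev R t w := by
    intro B _ _ t
    have := hχ L B (ev R t) (tU R)
    rw [map_ev_tU] at this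
    rw [this]
    rfl
  let L' := LaurentPolynomial L
  let T1 : L'ˣ := Units.map (IsScalarTower.toAlgHom R L L' : L →* L') (tU R)
  let T2 : L'ˣ := tU L
  have hT1 : (χ L' T1 : L') = C w := by
    rw [hχ L L' (IsScalarTower.toAlgHom R L L') (tU R)]
    rfl
  have hmul : ev R (T1 * T2) w = C w * ev R T2 w := by
    rw [← hw, ← hw, ← hT1, map_mul, Units.val_mul]
  have hc2 : ∀ (x : L) (m : ℤ), (ev R T2 x).coeff m = C (x.coeff m) := by
    intro x m
    induction x using LaurentPolynomial.induction_on' with
    | add p q hp hq =>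
      rw [map_add]
      change (ev R T2 p).coeff m + (ev R T2 q).coeff m = C (p.coeff m + q.coeff m)
      rw [hp, hq, map_add]
    | C_mul_T n a =>
      rw [map_mul, ev_C, ev_T, tU_zpow, IsScalarTower.algebraMap_apply R L L', ← C_eq_algebraMap, ← C_eq_algebraMap, coeff_C_mul_T, coeff_C_mul_T]
      split_ifs
      · rfl
      · rw [map_zero]
  have hc12 : ∀ (x : L) (m : ℤ), (ev R (T1 * T2) x).coeff m = C (x.coeff m) * T m := by
    intro x m
    induction x using LaurentPolynomial.induction_on' with
    | add p q hp hq =>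
      rw [map_add]
      change (ev R (T1 * T2) p).coeff m + (ev R (T1 * T2) q).coeff m = C (p.coeff m + q.coeff m) * T m
      rw [hp, hq, map_add, add_mul]
    | C_mul_T n a =>
      have hT1n : ((T1 ^ n : L'ˣ) : L') = C (T n) := by
        rw [← tU_zpow R n]
        change ((Units.map (IsScalarTower.toAlgHom R L L' : L →* L') (tU R)) ^ n : L'ˣ).val = _
        rw [← map_zpow]
        rfl
      have h12 : (T1 * T2) ^ n = T1 ^ n * T2 ^ n := mul_zpow T1 T2 n
      rw [map_mul, ev_C, ev_T, h12, Units.val_mul, tU_zpow, hT1n, IsScalarTower.algebraMap_apply R L L', ← C_eq_algebraMap, ← C_eq_algebraMap,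
        ← mul_assoc, ← map_mul, coeff_C_mul_T, coeff_C_mul_T]
      split_ifs with h
      · rw [h]
      · rw [map_zero, zero_mul]
  have key : ∀ m : ℤ, C (w.coeff m) * T m = w * C (w.coeff m) := by
    intro m
    rw [← hc12, hmul, coeff_C_mul, hc2]
  have hidem : ∀ m : ℤ, IsIdempotentElem (w.coeff m) := by
    intro m
    have := congrArg (fun x : L => x.coeff m) (key m)
    simp only [mul_comm w] at this
    rw [coeff_C_mul_T, coeff_C_mul, if_pos rfl] at this
    exact this.symm
  obtain ⟨n, hn⟩ : ∃ n : ℤ, w.coeff n ≠ 0 := by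
    by_contra hcon
    push Not at hcon
    have : w = 0 := LaurentPolynomial.ext fun a => by rw [hcon]; rfl
    have h1 : IsUnit w := (χ L (tU R)).isUnit
    rw [this] at h1
    exact not_isUnit_zero h1
  have hn1 : w.coeff n = 1 := (idempotent_eq (hidem n)).resolve_left hn
  have hwn : w = T n := by
    have := key n
    rw [hn1, map_one, one_mul, mul_one] at this
    exact this.symm
  refine ⟨n, ?_, ?_⟩
  · intro B _ _ t
    apply Units.ext
    rw [hw, hwn, ev_T]
  · intro m hm
    have h1 : T n = (T m : L) := by
      rw [← hwn, ← tU_zpow R m, ← hm L (tU R)]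
    have h2 := congrArg (fun x : L => x.coeff m) h1
    rw [← one_mul (T n : L), ← one_mul (T m : L), ← map_one C, coeff_C_mul_T, coeff_C_mul_T, if_pos rfl] at h2
    by_contra hne
    rw [if_neg (Ne.symm hne)] at h2
    exact zero_ne_one h2

end K59.CharGm
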