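import Mathlib.Algebra.Group.Pi.Units
import Mathlib.LinearAlgebra.Matrix.Permutation

/-!
# Commutators in the general linear group over a ring, locally for the étale topology

`H` is the subgroup of `GL_n(B)` generated by the commutators and the diagonal matrices.  A matrix of
determinant one in `H` is in the commutator subgroup (`mem_commutator_of_det_eq_one`).
-/

set_option autoImplicit false
universe u

namespace K59.GLComm

open Matrix
open scoped commutatorElement

section basic

variable {B : Type u} [CommRing B] {n : ℕ}

/-- Diagonal matrices with invertible entries. -/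
def diagHom : (Fin n → Bˣ) →* GL (Fin n) B :=
  (Units.map (Matrix.diagonalRingHom (Fin n) B).toMonoidHom).comp
    (MulEquiv.piUnits (M := fun _ : Fin n => B)).symm.toMonoidHom

theorem coe_diagHom (d : Fin n → Bˣ) : (diagHom d : Matrix (Fin n) (Fin n) B) = diagonal fun i => (d i : B) := rfl

/-- The elementary matrix `1 + b E_ij` as an element of `GL_n`. -/
def transGL {i j : Fin n} (hij : i ≠ j) (b : B) : GL (Fin n) B :=
  SpecialLinearGroup.toGL (SpecialLinearGroup.transvection hij b)

theorem coe_transGL {i j : Fin n} (hij : i ≠ j) (b : B) : (transGL hij b : Matrix (Fin n) (Fin n) B) = transvection i j b := rfl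

/-- If `u` and `u - 1` are units then every elementary matrix is a commutator. -/
theorem transGL_mem (u : Bˣ) (hu : IsUnit ((u : B) - 1)) {i j : Fin n} (hij : i ≠ j) (b : B) :
    transGL hij b ∈ commutator (GL (Fin n) B) := by
  obtain ⟨w, hw⟩ := hu
  let D : GL (Fin n) B := diagHom (Pi.mulSingle i u)
  let T : GL (Fin n) B := transGL hij ((w⁻¹ : Bˣ) * b)
  have key : D * T = transGL hij b * (T * D) := by
    apply Units.ext
    change diagonal (fun k => ((Pi.mulSingle i u : Fin n → Bˣ) k : B)) * transvection i j ((w⁻¹ : Bˣ) * b) =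
      transvection i j b * (transvection i j ((w⁻¹ : Bˣ) * b) * diagonal (fun k => ((Pi.mulSingle i u : Fin n → Bˣ) k : B)))
    rw [← mul_assoc, transvection_mul_transvection_same _ _ hij]
    ext a c
    rw [diagonal_mul, mul_diagonal]
    have hb : (u : B) * ((w⁻¹ : Bˣ) * b) = b + (w⁻¹ : Bˣ) * b := by
      have h1 : (w : B) * (w⁻¹ : Bˣ) = 1 := Units.mul_inv w
      rw [hw] at h1
      linear_combination b * h1
    by_cases hac : a = c
    · subst hac
      have : Matrix.single i j (1 : B) a a = 0 := by
        rw [Matrix.single_apply]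
        split_ifs with h
        · exact absurd (h.1.trans h.2.symm) hij
        · rfl
      simp only [transvection, Matrix.add_apply, Matrix.one_apply_eq, Matrix.single_apply]
      have hne : ¬ (i = a ∧ j = a) := fun h => hij (h.1.trans h.2.symm)
      simp [hne]
    · by_cases hia : i = a
      · subst hia
        by_cases hjc : j = c
        · subst hjc
          simp only [transvection, Matrix.add_apply, Matrix.one_apply_ne hij, Matrix.single_apply]
          simp [hij.symm, hb]
        · simp [transvection, hjc, Matrix.one_apply_ne hac]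
      · simp [transvection, hia, Matrix.one_apply_ne hac]
  have h2 : transGL hij b = ⁅D, T⁆ := by
    rw [commutatorElement_def, key]
    group
  rw [h2]
  exact Subgroup.commutator_mem_commutator (Subgroup.mem_top D) (Subgroup.mem_top T)

/-- The subgroup generated by the commutators and the diagonal matrices. -/
def H (B : Type u) [CommRing B] (n : ℕ) : Subgroup (GL (Fin n) B) := commutator (GL (Fin n) B) ⊔ (diagHom (B := B) (n := n)).range

theorem commutator_le_H : commutator (GL (Fin n) B) ≤ H B n := le_sup_left

theorem diagHom_mem_H (d : Fin n → Bˣ) : diagHom d ∈ H B n := Subgroup.mem_sup_right ⟨d, rfl⟩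

theorem map_commutator_le {G G' : Type*} [Group G] [Group G'] (f : G →* G') {x : G} (hx : x ∈ commutator G) : f x ∈ commutator G' := by
  have : (commutator G).map f ≤ commutator G' := by
    rw [commutator_def, commutator_def, Subgroup.map_commutator]
    exact Subgroup.commutator_mono le_top le_top
  exact this ⟨x, hx, rfl⟩

theorem map_diagHom {B' : Type u} [CommRing B'] (g : B →+* B') (d : Fin n → Bˣ) :
    GeneralLinearGroup.map g (diagHom d) = diagHom fun i => Units.map g.toMonoidHom (d i) := by
  apply Units.ext
  ext i j
  change g (diagonal _ i j) = diagonal _ i j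
  by_cases h : i = j
  · subst h; simp
  · simp [h]

theorem map_mem_H {B' : Type u} [CommRing B'] (g : B →+* B') {x : GL (Fin n) B} (hx : x ∈ H B n) :
    GeneralLinearGroup.map g x ∈ H B' n := by
  have : (H B n).map (GeneralLinearGroup.map g) ≤ H B' n := by
    rw [H, Subgroup.map_sup, sup_le_iff]
    constructor
    · rintro _ ⟨x, hx, rfl⟩
      exact commutator_le_H (map_commutator_le _ hx)
    · rintro _ ⟨_, ⟨d, rfl⟩, rfl⟩
      rw [map_diagHom]
      exact diagHom_mem_H _
  exact this ⟨x, hx, rfl⟩

/-- The determinant of a commutator is one. -/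
theorem det_eq_one_of_mem_commutator {x : GL (Fin n) B} (hx : x ∈ commutator (GL (Fin n) B)) : GeneralLinearGroup.det x = 1 := by
  exact Abelianization.commutator_subset_ker GeneralLinearGroup.det hx

/-- Conjugating a diagonal matrix by a permutation. -/
theorem diag_mulSingle_mem (i j : Fin n) (a : Bˣ) :
    diagHom (Pi.mulSingle i a) * (diagHom (Pi.mulSingle j a))⁻¹ ∈ commutator (GL (Fin n) B) := by
  let W : GL (Fin n) B :=
    ⟨Equiv.Perm.permMatrix B (Equiv.swap i j), Equiv.Perm.permMatrix B (Equiv.swap i j), by
      rw [← Matrix.permMatrix_mul]; simp, by rw [← Matrix.permMatrix_mul]; simp⟩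
  have key : diagHom (Pi.mulSingle i a) * W = W * diagHom (Pi.mulSingle j a) := by
    apply Units.ext
    change diagonal (fun k => ((Pi.mulSingle i a : Fin n → Bˣ) k : B)) * Equiv.Perm.permMatrix B (Equiv.swap i j) =
      Equiv.Perm.permMatrix B (Equiv.swap i j) * diagonal (fun k => ((Pi.mulSingle j a : Fin n → Bˣ) k : B))
    ext k l
    rw [diagonal_mul, mul_diagonal]
    by_cases h : Equiv.swap i j k = l
    · subst h
      have : (Pi.mulSingle i a : Fin n → Bˣ) k = (Pi.mulSingle j a : Fin n → Bˣ) (Equiv.swap i j k) := by
        rcases eq_or_ne k i with rfl | h1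
        · simp
        · rcases eq_or_ne k j with rfl | h2
          · simp only [Equiv.swap_apply_right]
            rw [Pi.mulSingle_eq_of_ne h1, Pi.mulSingle_eq_of_ne h1.symm]
          · rw [Equiv.swap_apply_of_ne_of_ne h1 h2, Pi.mulSingle_eq_of_ne h1, Pi.mulSingle_eq_of_ne h2]
      rw [this, mul_comm]
    · simp [Equiv.Perm.permMatrix, PEquiv.toMatrix_apply, h]
  have h2 : diagHom (Pi.mulSingle i a) * (diagHom (Pi.mulSingle j a))⁻¹ = ⁅W, diagHom (Pi.mulSingle j a)⁆ := by
    rw [commutatorElement_def, ← key]
    group
  rw [h2]
  exact Subgroup.commutator_mem_commutator (Subgroup.mem_top _) (Subgroup.mem_top _)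

theorem mem_commutator_iff_abelianization (x : GL (Fin n) B) : x ∈ commutator (GL (Fin n) B) ↔ Abelianization.of x = 1 := by
  rw [← MonoidHom.mem_ker, Abelianization.ker_of]

theorem diag_mem_commutator (d : Fin n → Bˣ) (hd : ∏ i, d i = 1) : diagHom d ∈ commutator (GL (Fin n) B) := by
  rcases n with _ | n
  · have : diagHom d = 1 := by
      apply Units.ext
      ext i
      exact i.elim0
    rw [this]; exact one_mem _
  · rw [mem_commutator_iff_abelianization]
    have h1 : ∀ i : Fin (n + 1), ∀ a : Bˣ, Abelianization.of (diagHom (Pi.mulSingle i a)) =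
        Abelianization.of (diagHom (Pi.mulSingle (0 : Fin (n + 1)) a)) := by
      intro i a
      have := (mem_commutator_iff_abelianization _).1 (diag_mulSingle_mem i (0 : Fin (n + 1)) a)
      rw [map_mul, map_inv, mul_inv_eq_one] at this
      exact this
    have h2 : d = ∏ i, Pi.mulSingle i (d i) := (Finset.univ_prod_mulSingle d).symm
    have h4 : Abelianization.of (diagHom d) = ∏ i, Abelianization.of (diagHom (Pi.mulSingle i (d i))) := by
      conv_lhs => rw [h2]
      exact map_prod (Abelianization.of.comp diagHom) _ _
    rw [h4]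
    simp only [h1]
    have h3 : ∏ i, Abelianization.of (diagHom (Pi.mulSingle (0 : Fin (n + 1)) (d i))) =
        Abelianization.of (diagHom (Pi.mulSingle (0 : Fin (n + 1)) (∏ i, d i))) := by
      let F : Bˣ →* Abelianization (GL (Fin (n + 1)) B) :=
        (Abelianization.of.comp diagHom).comp (MonoidHom.mulSingle (fun _ : Fin (n + 1) => Bˣ) 0)
      exact (map_prod F d Finset.univ).symm
    rw [h3, hd, Pi.mulSingle_one, map_one, map_one]

theorem mem_commutator_of_det_eq_one {x : GL (Fin n) B} (hx : x ∈ H B n) (hdet : GeneralLinearGroup.det x = 1) :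
    x ∈ commutator (GL (Fin n) B) := by
  rw [H, Subgroup.mem_sup_of_normal_left] at hx
  obtain ⟨c, hc, _, ⟨d, rfl⟩, rfl⟩ := hx
  rw [map_mul, det_eq_one_of_mem_commutator hc, one_mul] at hdet
  refine mul_mem hc (diag_mem_commutator d ?_)
  apply Units.ext
  have := congrArg Units.val hdet
  change (diagHom d : Matrix (Fin n) (Fin n) B).det = 1 at this
  rw [coe_diagHom, det_diagonal] at this
  rw [Units.coe_prod, this, Units.val_one]

end basic

end K59.GLComm
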