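import Mathlib.RingTheory.Henselian
import Mathlib.RingTheory.RegularLocalRing.Defs
import Mathlib.RingTheory.RingHom.Etale
import Mathlib.RingTheory.SimpleRing.Principal
import Groth.Agent.CAlg.K59.GLComm

/-!
# Elimination for invertible matrices, locally for the étale topology

Every element of `GL_n(B)` is, étale locally around a point, in the subgroup `H` generated by commutators and
diagonal matrices.
-/

set_option autoImplicit false
universe u

namespace K59.GLElim

open Matrix K59.GLComm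

section col

variable {B : Type u} [CommRing B] {n : ℕ}

/-- Products of elementary matrices in a fixed column. -/
theorem exists_col (u : Bˣ) (hu : IsUnit ((u : B) - 1)) (k : Fin n) (c : Fin n → B) (S : Finset (Fin n)) (hS : k ∉ S) :
    ∃ g ∈ commutator (GL (Fin n) B), ∀ i j, (g : Matrix (Fin n) (Fin n) B) i j =
      (if i = j then 1 else 0) + if j = k ∧ i ∈ S then c i else 0 := by
  classical
  induction S using Finset.induction_on with
  | empty => exact ⟨1, one_mem _, fun i j => by simp [Matrix.one_apply]⟩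
  | insert a S ha ih =>
    have hak : a ≠ k := by rintro rfl; exact hS (Finset.mem_insert_self _ _)
    obtain ⟨g, hg, hgc⟩ := ih (fun h => hS (Finset.mem_insert_of_mem h))
    refine ⟨g * transGL hak (c a), mul_mem hg (transGL_mem u hu hak _), fun i j => ?_⟩
    change (g.1 * transvection a k (c a)) i j = _
    by_cases hj : j = k
    · subst hj
      rw [mul_transvection_apply_same, hgc, hgc]
      by_cases hia : i = a
      · subst hia
        simp [hak, ha]
      · simp [hia, hak]
    · rw [mul_transvection_apply_of_ne _ _ _ _ hj, hgc]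
      simp [hj]

end col

theorem mapmap {A B C : Type u} [CommRing A] [CommRing B] [CommRing C] {n : ℕ} (f : B →+* C) (g : A →+* B) (x : GL (Fin n) A) :
    GeneralLinearGroup.map f (GeneralLinearGroup.map g x) = GeneralLinearGroup.map (f.comp g) x := rfl

/-- `M` is, étale locally around the point given by `φ : B → K`, in the subgroup `H`. -/
def Reach (K : Type u) [Field K] (B : Type u) [CommRing B] (φ : B →+* K) {n : ℕ} (M : GL (Fin n) B) : Prop :=
  ∃ (B' : Type u) (_ : CommRing B') (g : B →+* B') (φ' : B' →+* K), g.Etale ∧ φ'.comp g = φ ∧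
    GeneralLinearGroup.map g M ∈ H B' n

theorem Reach.of_map {K : Type u} [Field K] {B B₁ : Type u} [CommRing B] [CommRing B₁] {φ : B →+* K} {φ₁ : B₁ →+* K}
    (g : B →+* B₁) (hg : g.Etale) (hφ : φ₁.comp g = φ) {n : ℕ} {M : GL (Fin n) B}
    (h : Reach K B₁ φ₁ (GeneralLinearGroup.map g M)) : Reach K B φ M := by
  obtain ⟨B', _, g', φ', hg', hφ', hM⟩ := h
  refine ⟨B', inferInstance, g'.comp g, φ', RingHom.Etale.stableUnderComposition g g' hg hg', ?_, ?_⟩
  · rw [← RingHom.comp_assoc, hφ', hφ]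
  · rw [← GeneralLinearGroup.map_comp_apply] at hM
    exact hM

theorem Reach.mul_left {K : Type u} [Field K] {B : Type u} [CommRing B] {φ : B →+* K} {n : ℕ} {M N : GL (Fin n) B}
    (hN : N ∈ H B n) (h : Reach K B φ (N * M)) : Reach K B φ M := by
  obtain ⟨B', _, g', φ', hg', hφ', hM⟩ := h
  refine ⟨B', inferInstance, g', φ', hg', hφ', ?_⟩
  rw [map_mul] at hM
  exact (Subgroup.mul_mem_cancel_left _ (map_mem_H g' hN)).1 hM

/-- Étale localization at an element that does not vanish at the point. -/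
theorem exists_away {K : Type u} [Field K] {B : Type u} [CommRing B] (φ : B →+* K) (f : B) (hf : φ f ≠ 0) :
    ∃ (B' : Type u) (_ : CommRing B') (g : B →+* B') (φ' : B' →+* K), g.Etale ∧ φ'.comp g = φ ∧ IsUnit (g f) := by
  refine ⟨Localization.Away f, inferInstance, algebraMap _ _, IsLocalization.Away.lift f (IsUnit.mk0 _ hf), ?_, ?_, ?_⟩
  · rw [RingHom.etale_algebraMap]
    exact Algebra.Etale.of_isLocalizationAway f
  · exact IsLocalization.Away.lift_comp f _
  · exact IsLocalization.Away.algebraMap_isUnit f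

/-- An invertible diagonal matrix is in the image of `diagHom`. -/
theorem mem_H_of_diag {B : Type u} [CommRing B] {n : ℕ} (M : GL (Fin n) B) (hM : ∀ i j, i ≠ j → (M : Matrix (Fin n) (Fin n) B) i j = 0) :
    M ∈ H B n := by
  have h1 : (M : Matrix (Fin n) (Fin n) B) = diagonal fun i => (M : Matrix (Fin n) (Fin n) B) i i := by
    ext i j
    by_cases h : i = j
    · subst h; simp
    · rw [hM i j h, diagonal_apply_ne _ h]
  have h2 : IsUnit (∏ i, (M : Matrix (Fin n) (Fin n) B) i i) := by
    have : IsUnit (M : Matrix (Fin n) (Fin n) B).det := ⟨GeneralLinearGroup.det M, rfl⟩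
    rw [h1, det_diagonal] at this
    exact this
  have h3 : ∀ i, IsUnit ((M : Matrix (Fin n) (Fin n) B) i i) := fun i =>
    isUnit_of_dvd_unit (Finset.dvd_prod_of_mem (fun i => (M : Matrix (Fin n) (Fin n) B) i i) (Finset.mem_univ i)) h2
  choose d hd using h3
  have h4 : M = diagHom d := by
    apply Units.ext
    rw [h1, coe_diagHom]
    congr 1
    ext i
    rw [hd]
  rw [h4]
  exact diagHom_mem_H d

/-- Elimination: a matrix which is the identity at the point is étale locally in `H`. -/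
theorem elim {K : Type u} [Field K] {n : ℕ} (m : ℕ) (hm : m ≤ n) :
    ∀ (B : Type u) [CommRing B] (φ : B →+* K) (_ : ∃ u : Bˣ, IsUnit ((u : B) - 1)) (M : GL (Fin n) B),
      GeneralLinearGroup.map φ M = 1 →
      (∀ i j : Fin n, (j : ℕ) < n - m → i ≠ j → (M : Matrix (Fin n) (Fin n) B) i j = 0) → Reach K B φ M := by
  classical
  induction m with
  | zero =>
    intro B _ φ _ M _ hM
    refine ⟨B, inferInstance, RingHom.id B, φ, RingHom.Etale.containsIdentities B, RingHom.comp_id φ, ?_⟩
    apply mem_H_of_diag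
    intro i j hij
    rw [GeneralLinearGroup.map_apply]
    exact hM i j (by omega) hij
  | succ m ih =>
    intro B _ φ hu M hφM hM
    let k : Fin n := ⟨n - (m + 1), by omega⟩
    have hval : ∀ i j, φ ((M : Matrix (Fin n) (Fin n) B) i j) = (1 : Matrix (Fin n) (Fin n) K) i j := by
      intro i j
      rw [← GeneralLinearGroup.map_apply, hφM]
      rfl
    obtain ⟨B', _, g, φ', hg, hφ', hunit⟩ := exists_away φ ((M : Matrix (Fin n) (Fin n) B) k k)
      (by rw [hval, Matrix.one_apply_eq]; exact one_ne_zero)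
    apply Reach.of_map g hg hφ'
    obtain ⟨u, hu⟩ := hu
    have hu' : IsUnit (((Units.map g.toMonoidHom u : B'ˣ) : B') - 1) := by
      have := hu.map g
      rwa [map_sub, map_one] at this
    obtain ⟨w, hw⟩ := hunit
    set N := GeneralLinearGroup.map g M with hN
    have hNval : ∀ i j, (N : Matrix (Fin n) (Fin n) B') i j = g ((M : Matrix (Fin n) (Fin n) B) i j) :=
      fun i j => GeneralLinearGroup.map_apply g i j M
    obtain ⟨c, hc, hcv⟩ := exists_col (Units.map g.toMonoidHom u) hu' k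
      (fun i => - (N : Matrix (Fin n) (Fin n) B') i k * (w⁻¹ : B'ˣ)) (Finset.univ.erase k) (Finset.notMem_erase _ _)
    apply Reach.mul_left (N := c) (commutator_le_H hc)
    have hprod : ∀ i j, ((c * N : GL (Fin n) B') : Matrix (Fin n) (Fin n) B') i j =
        if i = k then (N : Matrix (Fin n) (Fin n) B') k j else
          (N : Matrix (Fin n) (Fin n) B') i j - (N : Matrix (Fin n) (Fin n) B') i k * (w⁻¹ : B'ˣ) * (N : Matrix (Fin n) (Fin n) B') k j := by
      intro i j
      change (c.1 * N.1) i j = _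
      rw [Matrix.mul_apply]
      simp only [hcv, add_mul, Finset.sum_add_distrib, ite_mul, one_mul, zero_mul, Finset.sum_ite_eq, Finset.mem_univ, if_true]
      by_cases hik : i = k
      · subst hik; simp
      · simp [hik, Finset.sum_ite_eq', sub_eq_add_neg]
    have hφu : ∃ u : B'ˣ, IsUnit ((u : B') - 1) := ⟨_, hu'⟩
    have hφN : ∀ i j, φ' ((N : Matrix (Fin n) (Fin n) B') i j) = (1 : Matrix (Fin n) (Fin n) K) i j := by
      intro i j
      rw [hNval, ← RingHom.comp_apply, hφ', hval]
    refine ih (by omega) B' φ' hφu (c * N) ?_ ?_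
    · apply Units.ext
      ext i j
      change φ' (((c * N : GL (Fin n) B') : Matrix (Fin n) (Fin n) B') i j) = (1 : Matrix (Fin n) (Fin n) K) i j
      rw [hprod]
      split_ifs with hik
      · subst hik; rw [hφN]
      · rw [map_sub, map_mul, map_mul, hφN, hφN i k, Matrix.one_apply_ne hik, zero_mul, zero_mul, sub_zero]
    · intro i j hj hij
      rw [hprod]
      by_cases hjk : j = k
      · subst hjk
        rw [if_neg hij]
        have : (N : Matrix (Fin n) (Fin n) B') k k = w := by rw [hNval, hw]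
        rw [this, mul_assoc, Units.inv_mul, mul_one, sub_self]
      · have hj' : (j : ℕ) < n - (m + 1) := by
          have : (j : ℕ) ≠ n - (m + 1) := fun h => hjk (Fin.ext h)
          omega
        have h0 : ∀ i, i ≠ j → (N : Matrix (Fin n) (Fin n) B') i j = 0 := by
          intro i hij
          rw [hNval, hM i j hj' hij, map_zero]
        rw [h0 i hij, h0 k (Ne.symm hjk)]
        simp

/-- Every invertible matrix over the residue field lifts, étale locally, to an element of `H`. -/
theorem exists_lift {K : Type u} [Field K] {n : ℕ} (M : Matrix (Fin n) (Fin n) K) (hdet : M.det ≠ 0) :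
    ∀ (B : Type u) [CommRing B] (φ : B →+* K) (_ : ∃ u : Bˣ, IsUnit ((u : B) - 1))
      (_ : ∀ x : K, ∃ a b : B, φ b ≠ 0 ∧ φ a = x * φ b),
      ∃ (B' : Type u) (_ : CommRing B') (g : B →+* B') (φ' : B' →+* K) (t : GL (Fin n) B'), g.Etale ∧ φ'.comp g = φ ∧
        t ∈ H B' n ∧ ((GeneralLinearGroup.map φ' t : GL (Fin n) K) : Matrix (Fin n) (Fin n) K) = M := by
  classical
  refine Matrix.diagonal_transvection_induction_of_det_ne_zero (fun M => ∀ (B : Type u) [CommRing B] (φ : B →+* K) (_ : ∃ u : Bˣ, IsUnit ((u : B) - 1))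
      (_ : ∀ x : K, ∃ a b : B, φ b ≠ 0 ∧ φ a = x * φ b),
      ∃ (B' : Type u) (_ : CommRing B') (g : B →+* B') (φ' : B' →+* K) (t : GL (Fin n) B'), g.Etale ∧ φ'.comp g = φ ∧
        t ∈ H B' n ∧ ((GeneralLinearGroup.map φ' t : GL (Fin n) K) : Matrix (Fin n) (Fin n) K) = M) M hdet ?_ ?_ ?_
  · intro D hD B _ φ _ hfrac
    rw [det_diagonal, Finset.prod_ne_zero_iff] at hD
    choose a b hb hab using hfrac
    have ha : ∀ i, φ (a (D i)) ≠ 0 := by
      intro i
      rw [hab]
      exact mul_ne_zero (hD i (Finset.mem_univ i)) (hb _)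
    obtain ⟨B', _, g, φ', hg, hφ', hu⟩ := exists_away φ (∏ i, (a (D i) * b (D i))) (by
      rw [map_prod, Finset.prod_ne_zero_iff]
      intro i _
      rw [map_mul]
      exact mul_ne_zero (ha i) (hb _))
    rw [map_prod] at hu
    have hu1 : ∀ i, IsUnit (g (a (D i))) ∧ IsUnit (g (b (D i))) := by
      intro i
      have := isUnit_of_dvd_unit (Finset.dvd_prod_of_mem (fun i => g (a (D i) * b (D i))) (Finset.mem_univ i)) hu
      rw [map_mul] at this
      exact IsUnit.mul_iff.1 this
    choose x hx using fun i => (hu1 i).1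
    choose y hy using fun i => (hu1 i).2
    refine ⟨B', inferInstance, g, φ', diagHom fun i => x i * (y i)⁻¹, hg, hφ', diagHom_mem_H _, ?_⟩
    rw [map_diagHom, coe_diagHom]
    congr 1
    ext i
    have h1 : φ' (x i) = D i * φ' (y i) := by
      rw [hx, hy, ← RingHom.comp_apply, ← RingHom.comp_apply, hφ', hab]
    have h2 : φ' (y i) ≠ 0 := ((y i).isUnit.map φ').ne_zero
    change φ' ((x i * (y i)⁻¹ : B'ˣ) : B') = D i
    rw [Units.val_mul, map_mul, h1]
    have h3 : φ' (y i) * φ' ((y i)⁻¹ : B'ˣ) = 1 := by rw [← map_mul, Units.mul_inv, map_one]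
    rw [mul_assoc, h3, mul_one]
  · intro t B _ φ hu hfrac
    obtain ⟨a, b, hb, hab⟩ := hfrac t.c
    obtain ⟨B', _, g, φ', hg, hφ', hub⟩ := exists_away φ b hb
    obtain ⟨w, hw⟩ := hub
    obtain ⟨u, hu⟩ := hu
    have hu' : IsUnit (((Units.map g.toMonoidHom u : B'ˣ) : B') - 1) := by
      have := hu.map g
      rwa [map_sub, map_one] at this
    refine ⟨B', inferInstance, g, φ', transGL t.hij (g a * (w⁻¹ : B'ˣ)), hg, hφ',
      commutator_le_H (transGL_mem _ hu' t.hij _), ?_⟩
    ext i j
    change φ' (transvection t.i t.j (g a * (w⁻¹ : B'ˣ)) i j) = transvection t.i t.j t.c i j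
    have h1 : φ' (g a * (w⁻¹ : B'ˣ)) = t.c := by
      have h2 : φ' w * φ' (w⁻¹ : B'ˣ) = 1 := by rw [← map_mul, Units.mul_inv, map_one]
      rw [map_mul, ← RingHom.comp_apply, hφ', hab, ← hφ', RingHom.comp_apply, ← hw, mul_assoc, h2, mul_one]
    simp only [transvection, Matrix.add_apply, Matrix.one_apply, Matrix.single_apply, map_add]
    split_ifs <;> simp [h1]
  · intro A A' hA hA' ihA ihA' B _ φ hu hfrac
    obtain ⟨B₁, _, g₁, φ₁, t₁, hg₁, hφ₁, ht₁, hval₁⟩ := ihA B φ hu hfrac
    have hu₁ : ∃ u : B₁ˣ, IsUnit ((u : B₁) - 1) := by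
      obtain ⟨u, hu⟩ := hu
      refine ⟨Units.map g₁.toMonoidHom u, ?_⟩
      have := hu.map g₁
      rwa [map_sub, map_one] at this
    have hfrac₁ : ∀ x : K, ∃ a b : B₁, φ₁ b ≠ 0 ∧ φ₁ a = x * φ₁ b := by
      intro x
      obtain ⟨a, b, hb, hab⟩ := hfrac x
      refine ⟨g₁ a, g₁ b, ?_, ?_⟩
      · rw [← RingHom.comp_apply, hφ₁]; exact hb
      · rw [← RingHom.comp_apply, ← RingHom.comp_apply, hφ₁]; exact hab
    obtain ⟨B₂, _, g₂, φ₂, t₂, hg₂, hφ₂, ht₂, hval₂⟩ := ihA' B₁ φ₁ hu₁ hfrac₁
    refine ⟨B₂, inferInstance, g₂.comp g₁, φ₂, GeneralLinearGroup.map g₂ t₁ * t₂, RingHom.Etale.stableUnderComposition _ _ hg₁ hg₂, ?_,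
      mul_mem (map_mem_H _ ht₁) ht₂, ?_⟩
    · rw [← RingHom.comp_assoc, hφ₂, hφ₁]
    · rw [map_mul, GeneralLinearGroup.coe_mul, hval₂, mapmap, hφ₂, hval₁]

/-- Every matrix of determinant one is étale locally in the commutator subgroup, when there is a unit `u` with `u - 1` a unit. -/
theorem reach_SL {K : Type u} [Field K] {n : ℕ} (B : Type u) [CommRing B] (φ : B →+* K) (hu : ∃ u : Bˣ, IsUnit ((u : B) - 1))
    (hfrac : ∀ x : K, ∃ a b : B, φ b ≠ 0 ∧ φ a = x * φ b) (s : GL (Fin n) B) (hs : GeneralLinearGroup.det s = 1) :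
    ∃ (B' : Type u) (_ : CommRing B') (g : B →+* B') (φ' : B' →+* K), g.Etale ∧ φ'.comp g = φ ∧
      GeneralLinearGroup.map g s ∈ commutator (GL (Fin n) B') := by
  have hdet : ((GeneralLinearGroup.map φ s : GL (Fin n) K) : Matrix (Fin n) (Fin n) K).det ≠ 0 :=
    GeneralLinearGroup.det_ne_zero _
  obtain ⟨B₁, _, g₁, φ₁, t, hg₁, hφ₁, ht, hval⟩ := exists_lift _ hdet B φ hu hfrac
  have hu₁ : ∃ u : B₁ˣ, IsUnit ((u : B₁) - 1) := by
    obtain ⟨u, hu⟩ := hu
    refine ⟨Units.map g₁.toMonoidHom u, ?_⟩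
    have := hu.map g₁
    rwa [map_sub, map_one] at this
  have h1 : GeneralLinearGroup.map φ₁ (t⁻¹ * GeneralLinearGroup.map g₁ s) = 1 := by
    rw [map_mul, map_inv, mapmap, hφ₁, inv_mul_eq_one]
    exact Units.ext hval
  have h2 := elim (K := K) n le_rfl B₁ φ₁ hu₁ (t⁻¹ * GeneralLinearGroup.map g₁ s) h1 (fun i j hj => by omega)
  have h3 : Reach K B₁ φ₁ (GeneralLinearGroup.map g₁ s) := h2.mul_left (inv_mem ht)
  obtain ⟨B', _, g, φ', hg, hφ', hM⟩ := Reach.of_map g₁ hg₁ hφ₁ h3
  refine ⟨B', inferInstance, g, φ', hg, hφ', mem_commutator_of_det_eq_one hM ?_⟩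
  rw [GeneralLinearGroup.map_det, hs, map_one]

end K59.GLElim
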